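import Cfsg.Agent.Lib.CIT.Basic
import Cfsg.Agent.Lib.ZStar.Main

/-!
# Self-centralizing non-cyclic subgroups give a CIT group
-/

set_option autoImplicit false
set_option linter.style.haveILetI false
set_option linter.unusedSectionVars false

namespace Cfsg.Lib.CIT.SelfCentral

open Subgroup
open Cfsg.Lib

universe u

variable {G : Type u} [Group G] [Finite G]

/-- Every non-cyclic subgroup contains its centralizer. -/
def SC (G : Type u) [Group G] : Prop :=
  ∀ H : Subgroup G, ¬ IsCyclic ↥H → centralizer (H : Set G) ≤ H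

omit [Finite G] in
/-- Two commuting involutions generate a four group. -/
theorem mem_four {a b : G} (ha : a * a = 1) (hb : b * b = 1) (hab : a * b = b * a) {x : G}
    (hx : x ∈ closure ({a, b} : Set G)) : x = 1 ∨ x = a ∨ x = b ∨ x = a * b := by
  have h1 : ∀ w, a * (a * w) = w := fun w => by rw [← mul_assoc, ha, one_mul]
  have h2 : ∀ w, b * (b * w) = w := fun w => by rw [← mul_assoc, hb, one_mul]
  have h3 : ∀ w, b * (a * w) = a * (b * w) := fun w => by rw [← mul_assoc, ← hab, mul_assoc]
  induction hx using closure_induction with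
  | mem y hy => rcases hy with rfl | rfl <;> simp
  | one => simp
  | mul y z _ _ hy hz =>
    rcases hy with rfl | rfl | rfl | rfl <;> rcases hz with rfl | rfl | rfl | rfl <;>
      simp [mul_assoc, ha, hb, h1, h3, ← hab]
  | inv y _ hy =>
    have ia : a⁻¹ = a := inv_eq_of_mul_eq_one_right ha
    have ib : b⁻¹ = b := inv_eq_of_mul_eq_one_right hb
    rcases hy with rfl | rfl | rfl | rfl <;> simp [ia, ib, ← hab]

omit [Finite G] in
/-- A four group is self-centralizing. -/
theorem SC.four (h : SC G) {a b c : G} (ha : orderOf a = 2) (hb : orderOf b = 2) (hne : a ≠ b)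
    (hab : a * b = b * a) (hca : c * a = a * c) (hcb : c * b = b * c) :
    c = 1 ∨ c = a ∨ c = b ∨ c = a * b := by
  refine mem_four (Invol.inv_mul_self ha) (Invol.inv_mul_self hb) hab (h _ ?_ ?_)
  · intro hcyc
    obtain ⟨g, hg⟩ := hcyc.exists_generator
    have hamem : a ∈ closure ({a, b} : Set G) := subset_closure (Or.inl rfl)
    have hbmem : b ∈ closure ({a, b} : Set G) := subset_closure (Or.inr rfl)
    have hg1 : (g : G) ^ 2 = 1 := by
      rcases mem_four (Invol.inv_mul_self ha) (Invol.inv_mul_self hb) hab g.2 with e | e | e | e <;> rw [e, sq]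
      · exact one_mul 1
      · exact Invol.inv_mul_self ha
      · exact Invol.inv_mul_self hb
      · rw [mul_assoc, ← mul_assoc b, ← hab, mul_assoc a b b, Invol.inv_mul_self hb, mul_one,
          Invol.inv_mul_self ha]
    have key : ∀ x ∈ closure ({a, b} : Set G), x = 1 ∨ x = (g : G) := by
      intro x hx
      obtain ⟨i, hi⟩ := mem_zpowers_iff.mp (hg ⟨x, hx⟩)
      have hi' : (g : G) ^ i = x := congrArg Subtype.val hi
      rcases Int.even_or_odd i with ⟨j, hj⟩ | ⟨j, hj⟩
      · left; rw [← hi', hj, ← two_mul, zpow_mul, zpow_two, ← sq, hg1, one_zpow]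
      · right; rw [← hi', hj, zpow_add, zpow_mul, zpow_one, zpow_two, ← sq, hg1, one_zpow, one_mul]
    rcases key a hamem with e | e
    · exact Invol.ne_one ha e
    · rcases key b hbmem with e' | e'
      · exact Invol.ne_one hb e'
      · exact hne (e.trans e'.symm)
  · rw [centralizer_closure]
    refine mem_centralizer_iff.mpr ?_
    rintro y (rfl | rfl)
    · exact hca.symm
    · exact hcb.symm

/-- No three independent commuting involutions. -/
theorem SC.no_rank_three (h : SC G) {A : Type*} [Group A] [Finite A] (hA : ∀ x : A, x * x = 1)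
    (φ : A →* G) (hφ : Function.Injective φ) : Nat.card A ≤ 4 := by
  classical
  by_contra hgt
  haveI := Fintype.ofFinite A
  rw [Nat.card_eq_fintype_card] at hgt
  have hcomm : ∀ x y : A, x * y = y * x := fun x y => by
    calc x * y = (x * y)⁻¹ := eq_inv_of_mul_eq_one_left (hA _)
      _ = y * x := by rw [mul_inv_rev, inv_eq_of_mul_eq_one_right (hA y), inv_eq_of_mul_eq_one_right (hA x)]
  have hmem : ∀ s : Finset A, s.card ≤ 4 → ∃ x, x ∉ s := fun s hs => by
    by_contra hc
    push Not at hc
    have := Finset.card_le_card (fun x (_ : x ∈ (Finset.univ : Finset A)) => hc x)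
    rw [Finset.card_univ] at this
    omega
  obtain ⟨a, ha⟩ := hmem {1} (by simp)
  obtain ⟨b, hb⟩ := hmem {1, a} ((Finset.card_insert_le _ _).trans (by simp))
  obtain ⟨c, hc⟩ := hmem {1, a, b, a * b}
    ((Finset.card_insert_le _ _).trans (Nat.add_le_add_right ((Finset.card_insert_le _ _).trans
      (Nat.add_le_add_right ((Finset.card_insert_le _ _).trans (by simp)) 1)) 1))
  simp only [Finset.mem_insert, Finset.mem_singleton, not_or] at ha hb hc
  have ho : ∀ x : A, x ≠ 1 → orderOf (φ x) = 2 := fun x hx => by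
    rw [orderOf_injective φ hφ]
    exact Invol.orderOf_eq_two_of hx (hA x)
  rcases h.four (ho a ha) (ho b hb.1) (fun e => hb.2 (hφ e).symm) (c := φ c)
    (by rw [← map_mul, ← map_mul, hcomm]) (by rw [← map_mul, ← map_mul, hcomm])
    (by rw [← map_mul, ← map_mul, hcomm]) with e | e | e | e
  · exact hc.1 (hφ (e.trans (map_one φ).symm))
  · exact hc.2.1 (hφ e)
  · exact hc.2.2.1 (hφ e)
  · exact hc.2.2.2 (hφ (e.trans (map_mul φ a b).symm))

/-- More than three quarters of involutions: the group is abelian. -/
theorem comm_of_three_quarters {Q : Type*} [Group Q] [Finite Q]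
    (h : 3 * Nat.card Q < 4 * Nat.card {x : Q // x * x = 1}) : ∀ x y : Q, x * y = y * x := by
  classical
  haveI := Fintype.ofFinite Q
  set I : Finset Q := Finset.univ.filter fun x => x * x = 1 with hI
  rw [Nat.card_eq_fintype_card, Nat.card_eq_fintype_card, Fintype.card_subtype, ← hI] at h
  have hbig : ∀ (K : Subgroup Q) (s : Finset Q), (∀ y ∈ s, y ∈ K) → Fintype.card Q < 2 * s.card →
      ∀ y, y ∈ K := by
    intro K s hs hlt
    suffices K = ⊤ from fun y => this ▸ mem_top y
    by_contra hK
    have h1 := K.card_mul_index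
    have h2 : 2 ≤ K.index := by
      have : K.index ≠ 1 := fun e => hK (Subgroup.index_eq_one.mp e)
      have := Subgroup.index_ne_zero_of_finite (H := K)
      omega
    have h3 : s.card ≤ Nat.card K := by
      rw [Nat.card_eq_fintype_card, Fintype.card_subtype]
      exact Finset.card_le_card fun y hy => Finset.mem_filter.mpr ⟨Finset.mem_univ _, hs y hy⟩
    have h4 : Nat.card K * 2 ≤ Nat.card K * K.index := Nat.mul_le_mul_left _ h2
    rw [h1, Nat.card_eq_fintype_card (α := Q)] at h4
    omega
  have hcen : ∀ x ∈ I, x ∈ center Q := by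
    intro x hx
    rw [hI, Finset.mem_filter] at hx
    refine mem_center_iff.mpr fun y => (mem_centralizer_singleton_iff.mp
      (hbig (centralizer {x}) (I ∩ I.image (x * ·)) ?_ ?_ y))
    · intro y hy
      rw [Finset.mem_inter, Finset.mem_image, hI] at hy
      obtain ⟨hy1, z, hz, rfl⟩ := hy
      rw [Finset.mem_filter] at hy1 hz
      refine mem_centralizer_singleton_iff.mpr ?_
      have hz' : z⁻¹ = z := inv_eq_of_mul_eq_one_right hz.2
      have hx' : x⁻¹ = x := inv_eq_of_mul_eq_one_right hx.2
      have h3 : x * z = z * x := by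
        calc x * z = (x * z)⁻¹ := eq_inv_of_mul_eq_one_left hy1.2
          _ = z * x := by rw [mul_inv_rev, hz', hx']
      calc x * z * x = x * (z * x) := mul_assoc _ _ _
        _ = x * (x * z) := by rw [h3]
    · have h1 := Finset.card_union_add_card_inter I (I.image (x * ·))
      rw [Finset.card_image_of_injective _ (mul_right_injective x)] at h1
      have h2 := Finset.card_le_univ (I ∪ I.image (x * ·))
      omega
  intro x y
  exact mem_center_iff.mp (hbig (center Q) I hcen (by omega) y) x

/-- Every involution lies in a four group. -/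
theorem exists_commuting [IsSimpleGroup G] (hna : ¬ IsMulCommutative G) {t : G} (ht : orderOf t = 2) :
    ∃ v, orderOf v = 2 ∧ v ≠ t ∧ t * v = v * t := by
  haveI : Fact (Nat.Prime 2) := ⟨Nat.prime_two⟩
  have hO : oddCore G = ⊥ := by
    rcases (inferInstance : (oddCore G).Normal).eq_bot_or_eq_top with h | h
    · exact h
    · exfalso
      have h1 : (Nat.card (oddCore G)).Coprime 2 := Core.pPrimeCore_coprime 2 G
      have h2 : orderOf t ∣ Nat.card (oddCore G) := Subgroup.orderOf_dvd_natCard _ (h ▸ mem_top t)
      rw [ht] at h2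
      have := Nat.eq_one_of_dvd_coprimes h1 h2 dvd_rfl
      omega
  obtain ⟨S, hS⟩ := (IsPGroup.of_card (n := 1) (by rw [Nat.card_zpowers, ht, pow_one]) :
    IsPGroup 2 (zpowers t)).exists_le_sylow
  have htS := hS (mem_zpowers t)
  haveI : Nontrivial (S : Subgroup G) := ⟨⟨⟨t, htS⟩, 1, fun e => Invol.ne_one ht (congrArg Subtype.val e)⟩⟩
  obtain ⟨z, -, hzc, hz⟩ := PGroup.exists_mem_center_orderOf_eq S.2
    (N := (⊤ : Subgroup (S : Subgroup G))) top_ne_bot
  have hz' : orderOf (z : G) = 2 := by rw [Subgroup.orderOf_coe, hz]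
  have hzcomm : ∀ s ∈ (S : Subgroup G), s * (z : G) = z * s := fun s hs =>
    congrArg Subtype.val (mem_center_iff.mp hzc ⟨s, hs⟩)
  rcases eq_or_ne (z : G) t with hzt | hzt
  · by_contra hcon
    push Not at hcon
    have hc := ZStar.mem_center_of_isolated hO (ZStar.isolated_of_unique_involution S ht
      fun x hx hx2 => by
        by_contra hne
        exact hcon x hx2 hne (hzt ▸ (hzcomm x hx).symm))
    rcases (inferInstance : (center G).Normal).eq_bot_or_eq_top with e | e
    · rw [e, mem_bot] at hc; exact Invol.ne_one ht hc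
    · exact hna ⟨⟨fun a b => (mem_center_iff.mp (e ▸ mem_top a : a ∈ center G) b).symm⟩⟩
  · exact ⟨z, hz', hzt, hzcomm t htS⟩

/-- The centralizer of an involution is a two-group. -/
theorem SC.isCIT [IsSimpleGroup G] (hna : ¬ IsMulCommutative G) (h : SC G) : IsCIT G := by
  classical
  haveI : Fact (Nat.Prime 2) := ⟨Nat.prime_two⟩
  intro t ht
  set C := centralizer ({t} : Set G) with hC
  set Q := Cfsg.pCore 2 C with hQ
  have hQ2 : IsPGroup 2 Q := Core.pCore_isPGroup 2 C
  -- no involution of `C` inverts an element of odd order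
  have hinv : ∀ u : C, orderOf u = 2 → u ∈ Q := by
    intro u hu
    by_contra huQ
    obtain ⟨x, hx1, hxo, hux⟩ := Invol.exists_inverted_odd hu fun N hN hN2 hmem =>
      huQ (Core.le_pCore' hN hN2 hmem)
    set H := zpowers x ⊔ zpowers u with hH
    have hn : zpowers u ≤ normalizer ((zpowers x : Subgroup C) : Set C) := by
      refine zpowers_le.mpr (Invol.mem_normalizer_of_map_le ?_)
      rw [MonoidHom.map_zpowers]
      refine zpowers_le.mpr ?_
      show u * x * u⁻¹ ∈ zpowers x
      rw [hux]; exact inv_mem (mem_zpowers x)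
    have hnc : ¬ IsCyclic ↥(H.map C.subtype) := by
      intro hcyc
      have hx' : (x : G) ∈ H.map C.subtype := ⟨x, mem_sup_left (mem_zpowers x), rfl⟩
      have hu' : (u : G) ∈ H.map C.subtype := ⟨u, mem_sup_right (mem_zpowers u), rfl⟩
      haveI := hcyc
      letI := IsCyclic.commGroup (α := ↥(H.map C.subtype))
      have hcomm : (u : G) * x = x * u :=
        congrArg Subtype.val (mul_comm (⟨(u : G), hu'⟩ : ↥(H.map C.subtype)) ⟨(x : G), hx'⟩)
      have hxx : x = x⁻¹ := by
        rw [← hux, show u * x = x * u from Subtype.ext hcomm, mul_inv_cancel_right]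
      exact hx1 (orderOf_eq_one_iff.mp (Nat.Coprime.eq_one_of_dvd (Nat.coprime_two_right.mpr hxo)
        (orderOf_dvd_of_pow_eq_one (by rw [sq]; nth_rw 2 [hxx]; exact mul_inv_cancel x))))
    obtain ⟨s, hs, hst⟩ := h _ hnc (show t ∈ centralizer ((H.map C.subtype : Subgroup G) : Set G) from
      mem_centralizer_iff.mpr fun y hy => by
        obtain ⟨y', -, rfl⟩ := hy
        exact mem_centralizer_singleton_iff.mp y'.2)
    rw [hH, sup_comm, SetLike.mem_coe, Core.mem_sup_of_le_normalizer hn] at hs
    obtain ⟨a, ha, b, hb, rfl⟩ := hs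
    have hst' : (a : G) * (b : G) = t := hst
    obtain ⟨i, rfl⟩ := mem_zpowers_iff.mp ha
    rcases Int.even_or_odd i with ⟨j, hj⟩ | ⟨j, hj⟩
    · -- `t` would be a power of `x`
      have hui : u ^ i = 1 := by
        rw [hj, ← two_mul, zpow_mul]; norm_cast; rw [sq, Invol.inv_mul_self hu, one_zpow]
      rw [hui, OneMemClass.coe_one, one_mul] at hst'
      have h2 : orderOf b ∣ orderOf x := orderOf_dvd_of_mem_zpowers hb
      rw [← Subgroup.orderOf_coe, hst', ht] at h2
      exact Nat.not_even_iff_odd.mpr hxo (even_iff_two_dvd.mpr h2)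
    · have hui : u ^ i = u := by
        rw [hj, zpow_add, zpow_mul, zpow_one]; norm_cast; rw [sq, Invol.inv_mul_self hu, one_zpow, one_mul]
      rw [hui] at hst'
      have h1 : (u : G) * x = x * u := by
        obtain ⟨j', rfl⟩ := mem_zpowers_iff.mp hb
        have hcb : Commute ((x ^ j' : C) : G) (x : G) := by
          push_cast
          exact Commute.zpow_self (x : G) j'
        have hu'' : (u : G) = t * ((x ^ j' : C) : G)⁻¹ := by rw [← hst', mul_inv_cancel_right]
        have ht' : Commute t (x : G) := (mem_centralizer_singleton_iff.mp x.2).symm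
        rw [hu'']
        exact (ht'.mul_left hcb.inv_left).eq
      have hxx : x = x⁻¹ := by
        rw [← hux, show u * x = x * u from Subtype.ext h1, mul_inv_cancel_right]
      exact hx1 (orderOf_eq_one_iff.mp (Nat.Coprime.eq_one_of_dvd (Nat.coprime_two_right.mpr hxo)
        (orderOf_dvd_of_pow_eq_one (by rw [sq]; nth_rw 2 [hxx]; exact mul_inv_cancel x))))
  obtain ⟨v, hv, hvt, htv⟩ := exists_commuting hna ht
  let tC : C := ⟨t, mem_centralizer_singleton_iff.mpr rfl⟩
  let vC : C := ⟨v, mem_centralizer_singleton_iff.mpr htv.symm⟩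
  have htQ : tC ∈ Q := hinv tC (by rw [← Subgroup.orderOf_coe]; exact ht)
  have hvQ : vC ∈ Q := hinv vC (by rw [← Subgroup.orderOf_coe]; exact hv)
  -- the index of the core is at most two
  have horb : Nat.card (centralizer ({vC} : Set C)) ≤ 4 := by
    have h4 : ∀ c : centralizer ({vC} : Set C),
        ((c : C) : G) = 1 ∨ ((c : C) : G) = t ∨ ((c : C) : G) = v ∨ ((c : C) : G) = t * v := fun c =>
      h.four ht hv (Ne.symm hvt) htv (mem_centralizer_singleton_iff.mp (c : C).2)
        (congrArg Subtype.val (mem_centralizer_singleton_iff.mp c.2))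
    let f : Fin 4 → G := ![1, t, v, t * v]
    have hex : ∀ c : centralizer ({vC} : Set C), ∃ i, f i = ((c : C) : G) := fun c => by
      rcases h4 c with e | e | e | e
      · exact ⟨0, e.symm⟩
      · exact ⟨1, e.symm⟩
      · exact ⟨2, e.symm⟩
      · exact ⟨3, e.symm⟩
    choose g hg using hex
    refine le_trans (Nat.card_le_card_of_injective g fun a b e => Subtype.ext (Subtype.ext ?_))
      (by rw [Nat.card_fin])
    rw [← hg a, ← hg b, e]
  have hcls : (centralizer ({vC} : Set C)).index + 2 ≤ Nat.card {y : Q // y * y = 1} := by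
    haveI := Fintype.ofFinite Q
    have hinj : Function.Injective fun o : (C ⧸ centralizer ({vC} : Set C)) ⊕ Bool =>
        o.elim (fun c => (⟨⟨c.out * vC * c.out⁻¹, (inferInstance : Q.Normal).conj_mem _ hvQ _⟩, by
            refine Subtype.ext ?_
            have hvv : vC * vC = 1 := Subtype.ext (Invol.inv_mul_self hv)
            show c.out * vC * c.out⁻¹ * (c.out * vC * c.out⁻¹) = 1
            calc c.out * vC * c.out⁻¹ * (c.out * vC * c.out⁻¹) = c.out * (vC * vC) * c.out⁻¹ := by group
              _ = 1 := by rw [hvv]; group⟩ : {y : Q // y * y = 1}))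
          (fun b => if b then ⟨1, one_mul 1⟩ else ⟨⟨tC, htQ⟩, Subtype.ext (Subtype.ext (Invol.inv_mul_self ht))⟩) := by
      have htc : ∀ c : C, c * tC * c⁻¹ = tC := fun c => mul_inv_eq_iff_eq_mul.mpr
        (Subtype.ext (mem_centralizer_singleton_iff.mp c.2))
      have hc1 : ∀ c : C, c * vC * c⁻¹ ≠ 1 := fun c e =>
        Invol.ne_one hv (congrArg Subtype.val (conj_eq_one_iff.mp e : vC = 1))
      have hct : ∀ c : C, c * vC * c⁻¹ ≠ tC := fun c e => by
        rw [← htc c, mul_left_inj, mul_right_inj] at e
        exact hvt (congrArg Subtype.val e)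
      rintro (a | a) (b | b) e
      · refine congrArg Sum.inl ?_
        have e' : a.out * vC * a.out⁻¹ = b.out * vC * b.out⁻¹ :=
          congrArg (fun y : {y : Q // y * y = 1} => ((y : Q) : C)) e
        rw [← a.out_eq', ← b.out_eq', QuotientGroup.eq, mem_centralizer_singleton_iff]
        calc a.out⁻¹ * b.out * vC = a.out⁻¹ * (b.out * vC * b.out⁻¹) * b.out := by group
          _ = vC * (a.out⁻¹ * b.out) := by rw [← e']; group
      · exfalso
        have e' := congrArg (fun y : {y : Q // y * y = 1} => ((y : Q) : C)) e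
        cases b
        · exact hct _ e'
        · exact hc1 _ e'
      · exfalso
        have e' := congrArg (fun y : {y : Q // y * y = 1} => ((y : Q) : C)) e
        cases a
        · exact hct _ e'.symm
        · exact hc1 _ e'.symm
      · have e' := congrArg (fun y : {y : Q // y * y = 1} => (((y : Q) : C) : G)) e
        cases a <;> cases b
        · rfl
        · exact absurd e' (Invol.ne_one ht)
        · exact absurd e'.symm (Invol.ne_one ht)
        · rfl
    have h1 := Nat.card_le_card_of_injective _ hinj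
    rwa [Nat.card_sum, Nat.card_eq_fintype_card (α := Bool), Fintype.card_bool] at h1
  have hidx : ∀ x : C, Odd (orderOf x) → x ∈ Q := by
    intro x hxo
    by_contra hxQ
    haveI : Q.Normal := inferInstance
    have h3 : 3 ≤ Q.index := by
      have hd : orderOf (x : C ⧸ Q) ∣ Q.index := orderOf_dvd_natCard _
      have h1 : orderOf (x : C ⧸ Q) ≠ 1 := fun e =>
        hxQ ((QuotientGroup.eq_one_iff x).mp (orderOf_eq_one_iff.mp e))
      have ho : Odd (orderOf (x : C ⧸ Q)) := hxo.of_dvd_nat (orderOf_map_dvd (QuotientGroup.mk' Q) x)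
      have h2 : 3 ≤ orderOf (x : C ⧸ Q) := by
        obtain ⟨m, hm⟩ := ho
        omega
      exact h2.trans (Nat.le_of_dvd (Nat.pos_of_ne_zero Subgroup.index_ne_zero_of_finite) hd)
    have hC4 : Nat.card C ≤ 4 * (centralizer ({vC} : Set C)).index := by
      rw [← (centralizer ({vC} : Set C)).card_mul_index]
      exact Nat.mul_le_mul_right _ horb
    have hQi := Q.card_mul_index
    have hbig : 3 * Nat.card Q < 4 * Nat.card {y : Q // y * y = 1} := by
      have : Nat.card Q * 3 ≤ Nat.card Q * Q.index := Nat.mul_le_mul_left _ h3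
      omega
    have habel := comm_of_three_quarters hbig
    -- so the core is the four group and the involutions are too few
    have hQle : Nat.card Q ≤ 4 :=
      le_trans (Subgroup.card_le_of_le (show Q ≤ centralizer ({vC} : Set C) from fun q hq =>
        mem_centralizer_singleton_iff.mpr (congrArg Subtype.val (habel ⟨q, hq⟩ ⟨vC, hvQ⟩)))) horb
    have hle : Nat.card {y : Q // y * y = 1} ≤ Nat.card Q :=
      Nat.card_le_card_of_injective _ Subtype.val_injective
    have hC12 : Nat.card Q * 3 ≤ Nat.card C := by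
      rw [← hQi]
      exact Nat.mul_le_mul_left _ h3
    omega
  intro c
  obtain ⟨k, r, hr, hkr⟩ := Nat.exists_eq_two_pow_mul_odd (n := orderOf c) (orderOf_pos c).ne'
  have hro : Odd (orderOf (c ^ 2 ^ k)) := by
    rw [orderOf_pow, hkr, Nat.gcd_mul_right_left, Nat.mul_div_cancel_left _ (by positivity)]
    exact hr
  exact ⟨k, eq_one_of_odd_two hQ2 (hidx _ hro) hro⟩

end Cfsg.Lib.CIT.SelfCentral
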