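import Cfsg.Agent.Lib.CIT.SelfCentral.IsCIT
import Cfsg.Agent.Lib.CIT.Classify
import Cfsg.Agent.Lib.CIT.TICount
import Cfsg.Agent.Lib.Dickson.CentralizerCard
import Cfsg.Agent.S0494
import Cfsg.Agent.S0252

/-!
# The simple groups whose non-cyclic subgroups contain their centralizers
-/

set_option autoImplicit false
set_option linter.style.haveILetI false
set_option linter.unusedSectionVars false

namespace Cfsg.Lib.CIT.SelfCentral

open Subgroup Matrix
open Cfsg.Lib

universe u

variable {F : Type} [Field F] [Fintype F]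

local notation "SL2" => Matrix.SpecialLinearGroup (Fin 2) F
local notation "PSL2" => Matrix.ProjectiveSpecialLinearGroup (Fin 2) F

theorem card_le_four_of_char_two {G : Type u} [Group G] [Finite G] (h : SC G)
    (h2 : (2 : F) = 0) (e : G ≃* PSL2) : Fintype.card F ≤ 4 := by
  let M : F → SL2 := fun a => ⟨!![1, a; 0, 1], by simp [Matrix.det_fin_two_of]⟩
  let φ : Multiplicative F →* PSL2 := (QuotientGroup.mk' _).comp (MonoidHom.mk'
    (fun a => M (Multiplicative.toAdd a)) fun a b => Subtype.ext (by
      show (M (Multiplicative.toAdd a + Multiplicative.toAdd b)).1 =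
        (M (Multiplicative.toAdd a)).1 * (M (Multiplicative.toAdd b)).1
      ext i j; fin_cases i <;> fin_cases j <;> simp [M, Matrix.mul_apply, add_comm]))
  have hφ : Function.Injective φ := by
    refine (injective_iff_map_eq_one φ).mpr fun a ha => ?_
    obtain ⟨r, -, hr⟩ := Matrix.SpecialLinearGroup.mem_center_iff.mp
      ((QuotientGroup.eq_one_iff (M (Multiplicative.toAdd a))).mp ha)
    have := congrFun (congrFun hr 0) 1
    simp [M] at this
    exact this.symm
  have hsq : ∀ x : Multiplicative F, x * x = 1 := fun x => by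
    show Multiplicative.ofAdd (Multiplicative.toAdd x + Multiplicative.toAdd x) = 1
    rw [← two_mul, h2, zero_mul]
    rfl
  have := h.no_rank_three hsq (e.symm.toMonoidHom.comp φ) (e.symm.injective.comp hφ)
  rwa [Nat.card_congr Multiplicative.toAdd, Nat.card_eq_fintype_card] at this

theorem not_iso_psl_three_four {G : Type u} [Group G] [Finite G] (h : SC G) : ¬ IsoPSLThreeFour G := by
  rintro ⟨K, iK, iKt, hK, ⟨e⟩⟩
  have h2 : (2 : K) = 0 := by
    have h4 : ((4 : ℕ) : K) = 0 := by rw [← hK]; exact Nat.cast_card_eq_zero K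
    have : (2 : K) * 2 = 0 := by norm_num at h4 ⊢; exact h4
    exact mul_self_eq_zero.mp this
  let M : K × K → Matrix.SpecialLinearGroup (Fin 3) K := fun p =>
    ⟨!![1, p.1, p.2; 0, 1, 0; 0, 0, 1], by simp [Matrix.det_fin_three]⟩
  let φ : Multiplicative (K × K) →* Matrix.ProjectiveSpecialLinearGroup (Fin 3) K :=
    (QuotientGroup.mk' _).comp (MonoidHom.mk' (fun a => M (Multiplicative.toAdd a)) fun a b =>
      Subtype.ext (by
        show (M (Multiplicative.toAdd a + Multiplicative.toAdd b)).1 =
          (M (Multiplicative.toAdd a)).1 * (M (Multiplicative.toAdd b)).1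
        ext i j; fin_cases i <;> fin_cases j <;>
          simp [M, Matrix.mul_apply, Fin.sum_univ_three, add_comm]))
  have hφ : Function.Injective φ := by
    refine (injective_iff_map_eq_one φ).mpr fun a ha => ?_
    obtain ⟨r, -, hr⟩ := Matrix.SpecialLinearGroup.mem_center_iff.mp
      ((QuotientGroup.eq_one_iff (M (Multiplicative.toAdd a))).mp ha)
    have h01 := congrFun (congrFun hr 0) 1
    have h02 := congrFun (congrFun hr 0) 2
    simp [M] at h01 h02
    exact Prod.ext h01.symm h02.symm
  have hsq : ∀ x : Multiplicative (K × K), x * x = 1 := fun x => by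
    show Multiplicative.ofAdd (Multiplicative.toAdd x + Multiplicative.toAdd x) = 1
    rw [show Multiplicative.toAdd x + Multiplicative.toAdd x = 0 from Prod.ext
      (by simp [← two_mul, h2]) (by simp [← two_mul, h2])]
    rfl
  have := h.no_rank_three hsq (e.symm.toMonoidHom.comp φ) (e.symm.injective.comp hφ)
  rw [Nat.card_congr Multiplicative.toAdd, Nat.card_prod, Nat.card_eq_fintype_card, hK] at this
  omega

/-- The forward direction. -/
theorem psl_of_sc {G : Type u} [Group G] [Finite G] [IsSimpleGroup G] (hna : ¬ IsMulCommutative G)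
    (h : SC G) :
    ∃ (F : Type) (_ : Field F) (_ : Fintype F),
      (Fintype.card F = 4 ∨ Fintype.card F = 9 ∨ ((Fintype.card F).Prime ∧
        ∃ k : ℕ, Fintype.card F = 2 ^ k + 1 ∨ Fintype.card F = 2 ^ k - 1)) ∧
      Nonempty (G ≃* Matrix.ProjectiveSpecialLinearGroup (Fin 2) F) := by
  haveI : Fact (Nat.Prime 2) := ⟨Nat.prime_two⟩
  have hG := h.isCIT hna
  have hti : TIHolds.{u} := fun Y _ _ H hD => exists_tiShape hD
  rcases trichotomy (ffHolds hti) (Nat.card G + 1) G hna hG (Nat.lt_succ_self _) with hT | hT | hT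
  · -- TI: a Sylow subgroup is a four group
    obtain ⟨S⟩ : Nonempty (Sylow 2 G) := inferInstance
    have hD := tiData hna hG hT S
    obtain ⟨E, t, hE⟩ := exists_tiShape hD
    obtain ⟨a, ha, b, hb, ha2, hb2, hne⟩ := hD.two_involutions
    have hca := hE.central hD a ha ha2
    have hcb := hE.central hD b hb hb2
    have hall : ∀ s ∈ (S : Subgroup G), s = 1 ∨ s = a ∨ s = b ∨ s = a * b := fun s hs =>
      h.four ha2 hb2 hne (hcb a ha) (hca s hs) (hcb s hs)
    have hab2 : orderOf (a * b) = 2 := Invol.orderOf_eq_two_of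
      (fun e => hne ((eq_inv_of_mul_eq_one_left e).trans (Invol.inv_eq_self hb2)))
      (by rw [mul_assoc, ← mul_assoc b, ← hcb a ha, mul_assoc a b b, Invol.inv_mul_self hb2, mul_one,
        Invol.inv_mul_self ha2])
    have hinj : Function.Injective (![1, a, b, a * b] : Fin 4 → G) := by
      intro i j e
      have h1 : a ≠ a * b := fun e => Invol.ne_one hb2 (left_eq_mul.mp e)
      have h2 : b ≠ a * b := fun e => Invol.ne_one ha2 (right_eq_mul.mp e)
      have h3 := Invol.ne_one ha2
      have h4 := Invol.ne_one hb2
      have h5 := Invol.ne_one hab2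
      fin_cases i <;> fin_cases j <;>
        first | rfl | exact absurd e hne | exact absurd e.symm hne | exact absurd e h1 |
          exact absurd e.symm h1 | exact absurd e h2 | exact absurd e.symm h2 |
          exact absurd e h3 | exact absurd e.symm h3 | exact absurd e h4 | exact absurd e.symm h4 |
          exact absurd e h5 | exact absurd e.symm h5
    have hS4 : Nat.card (S : Subgroup G) = 4 := by
      have hmem : ∀ i : Fin 4, (![1, a, b, a * b] : Fin 4 → G) i ∈ (S : Subgroup G) := by
        intro i; fin_cases i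
        · exact one_mem _
        · exact ha
        · exact hb
        · exact mul_mem ha hb
      rw [← Nat.card_eq_of_bijective (fun i : Fin 4 => (⟨_, hmem i⟩ : (S : Subgroup G)))
        ⟨fun i j e => hinj (congrArg Subtype.val e), fun s => by
          rcases hall s s.2 with e | e | e | e
          · exact ⟨0, Subtype.ext e.symm⟩
          · exact ⟨1, Subtype.ext e.symm⟩
          · exact ⟨2, Subtype.ext e.symm⟩
          · exact ⟨3, Subtype.ext e.symm⟩⟩, Nat.card_fin]
    have hI : Nat.card {x : G // x ∈ (S : Subgroup G) ∧ orderOf x = 2} = 3 := by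
      rw [← Nat.card_eq_of_bijective (fun i : Fin 3 =>
        (⟨(![a, b, a * b] : Fin 3 → G) i, by
          fin_cases i
          · exact ⟨ha, ha2⟩
          · exact ⟨hb, hb2⟩
          · exact ⟨mul_mem ha hb, hab2⟩⟩ : {x : G // x ∈ (S : Subgroup G) ∧ orderOf x = 2}))
        ⟨fun i j e => Fin.succ_injective 3 (hinj (congrArg Subtype.val e : _)), fun s => by
          rcases hall s s.2.1 with e | e | e | e
          · exact absurd e (Invol.ne_one s.2.2)
          · exact ⟨0, Subtype.ext e.symm⟩
          · exact ⟨1, Subtype.ext e.symm⟩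
          · exact ⟨2, Subtype.ext e.symm⟩⟩, Nat.card_fin]
    have h60 : Nat.card G = 60 := by
      rw [← Subgroup.card_mul_index (normalizer ((S : Subgroup G) : Set G)), hE.index_eq, ← hE.sup_eq,
        card_sup_eq_mul_of_inf_bot hE.le_normalizer hE.inf_eq, hE.card_eq, hI, hS4]
    obtain ⟨e5⟩ := Cfsg.Agent.S0494.result h60
    haveI : Fintype (GaloisField 2 2) := Fintype.ofFinite _
    have hF4 : Fintype.card (GaloisField 2 2) = 4 := by
      rw [← Nat.card_eq_fintype_card, GaloisField.card 2 2 two_ne_zero]; norm_num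
    obtain ⟨e4⟩ := Cfsg.Agent.S0252.result hF4
    exact ⟨GaloisField 2 2, inferInstance, inferInstance, Or.inl hF4, ⟨e5.trans e4.symm⟩⟩
  · obtain ⟨F, iF, iFt, ⟨e⟩⟩ := psl_of_dihedral hna hG hT
    refine ⟨F, iF, iFt, ?_, ⟨e⟩⟩
    rcases psl_list hna hG e with hl | ⟨n, hl⟩ | ⟨hp, k, hl⟩
    · exact Or.inr (Or.inl hl)
    · have h4 := four_le_of_iso hna e
      have h2 : (2 : F) = 0 := by
        have h0 : ((2 : F)) ^ n = 0 := by
          have := Nat.cast_card_eq_zero F
          rw [hl] at this
          exact_mod_cast this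
        exact eq_zero_of_pow_eq_zero h0
      exact Or.inl (le_antisymm (card_le_four_of_char_two h h2 e) h4)
    · exact Or.inr (Or.inr ⟨hp, k, by omega⟩)
  · exact (not_iso_psl_three_four h hT).elim

/-- A non-cyclic subgroup of a dihedral two-group contains the central involution. -/
theorem mem_of_dihedral {k : ℕ} (hk : ∃ i : ℕ, k = 2 ^ (i + 1)) {z : DihedralGroup k} (hz1 : z ≠ 1)
    (hzc : ∀ y, z * y = y * z) {H : Subgroup (DihedralGroup k)} (hH : ¬ IsCyclic H) : z ∈ H := by
  obtain ⟨i, rfl⟩ := hk
  haveI : NeZero (2 ^ (i + 1)) := ⟨pow_ne_zero _ two_ne_zero⟩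
  rcases Nat.eq_zero_or_pos i with rfl | hi
  · -- the four group
    have hH4 : H = ⊤ := by
      by_contra hne
      refine hH ?_
      have h1 := H.card_mul_index
      rw [DihedralGroup.nat_card] at h1
      have h2 : H.index ≠ 1 := fun e => hne (Subgroup.index_eq_one.mp e)
      simp only [zero_add, pow_one] at h1
      have h4 : Nat.card H ≤ 2 := by
        have h3 : 2 ≤ H.index := by
          have := Subgroup.index_ne_zero_of_finite (H := H)
          omega
        have := Nat.mul_le_mul_left (Nat.card H) h3
        omega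
      haveI : Fact (Nat.Prime 2) := ⟨Nat.prime_two⟩
      rcases (show Nat.card H = 1 ∨ Nat.card H = 2 by have := Nat.card_pos (α := H); omega) with e | e
      · haveI : Subsingleton H := (Nat.card_eq_one_iff_unique.mp e).1
        infer_instance
      · exact isCyclic_of_prime_card e
    rw [hH4]; exact mem_top z
  · -- a central element is the half turn
    have h2ne : ((2 : ℕ) : ZMod (2 ^ (i + 1))) ≠ 0 := by
      rw [Ne, ZMod.natCast_eq_zero_iff]
      intro hd
      have h4 : (4 : ℕ) ≤ 2 ^ (i + 1) := by
        calc (4 : ℕ) = 2 ^ 2 := rfl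
          _ ≤ _ := Nat.pow_le_pow_right two_pos (by omega)
      have := Nat.le_of_dvd two_pos hd
      omega
    obtain ⟨j, rfl⟩ : ∃ j, z = DihedralGroup.r j := by
      cases z with
      | r j => exact ⟨j, rfl⟩
      | sr j =>
        have h := hzc (DihedralGroup.r 1)
        simp only [DihedralGroup.sr_mul_r, DihedralGroup.r_mul_sr, DihedralGroup.sr.injEq] at h
        exfalso
        refine h2ne ?_
        push_cast
        linear_combination h
    have hj : j + j = 0 := by
      have h := hzc (DihedralGroup.sr 0)
      simp only [DihedralGroup.r_mul_sr, DihedralGroup.sr_mul_r, DihedralGroup.sr.injEq] at h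
      linear_combination -h
    have hj0 : j ≠ 0 := fun e => hz1 (by rw [e, DihedralGroup.one_def])
    obtain ⟨l, hl, hl0⟩ : ∃ l : ZMod (2 ^ (i + 1)), DihedralGroup.r l ∈ H ∧ l ≠ 0 := by
      by_contra hc
      push Not at hc
      have hr : ∀ x ∈ H, ∀ l, x = DihedralGroup.r l → x = 1 := fun x hx l e => by
        rw [e, hc l (e ▸ hx), DihedralGroup.one_def]
      refine hH ?_
      by_cases hs : ∃ m, DihedralGroup.sr m ∈ H
      · obtain ⟨m, hm⟩ := hs
        refine ⟨⟨⟨_, hm⟩, fun x => ?_⟩⟩
        obtain ⟨x, hx⟩ := x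
        cases x with
        | r l => exact ⟨0, Subtype.ext (by simp [hr _ hx l rfl])⟩
        | sr l =>
          refine ⟨1, Subtype.ext ?_⟩
          have h1 := mul_mem hm hx
          rw [DihedralGroup.sr_mul_sr] at h1
          simp [sub_eq_zero.mp (hc _ h1)]
      · push Not at hs
        haveI : Subsingleton H := ⟨fun a b => by
          have hone : ∀ c : H, (c : DihedralGroup (2 ^ (i + 1))) = 1 := fun c => by
            obtain ⟨c, hc'⟩ := c
            cases c with
            | r l => exact hr _ hc' l rfl
            | sr l => exact absurd hc' (hs l)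
          exact Subtype.ext ((hone a).trans (hone b).symm)⟩
        infer_instance
    -- some multiple of `l` is the half turn
    haveI : Fact (Nat.Prime 2) := ⟨Nat.prime_two⟩
    have hmem : ∀ n : ℕ, DihedralGroup.r ((n : ZMod (2 ^ (i + 1))) * l) ∈ H := by
      intro n
      induction n with
      | zero => rw [Nat.cast_zero, zero_mul, ← DihedralGroup.one_def]; exact one_mem H
      | succ n ih =>
        rw [Nat.cast_succ, add_mul, one_mul, ← DihedralGroup.r_mul_r]
        exact mul_mem ih hl
    have hex : ∃ n : ℕ, ((2 ^ n : ℕ) : ZMod (2 ^ (i + 1))) * l = 0 := ⟨i + 1, by simp⟩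
    classical
    have h0 : Nat.find hex ≠ 0 := fun e => hl0 (by
      have := Nat.find_spec hex
      rwa [e, pow_zero, Nat.cast_one, one_mul] at this)
    obtain ⟨n, hn⟩ := Nat.exists_eq_succ_of_ne_zero h0
    have hn1 : ((2 ^ n : ℕ) : ZMod (2 ^ (i + 1))) * l ≠ 0 := Nat.find_min hex (by omega)
    have hn2 : ((2 ^ n : ℕ) : ZMod (2 ^ (i + 1))) * l + ((2 ^ n : ℕ) : ZMod (2 ^ (i + 1))) * l = 0 := by
      have := Nat.find_spec hex
      rw [hn, show 2 ^ n.succ = 2 ^ n * 2 from pow_succ 2 n, Nat.cast_mul, mul_right_comm] at this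
      linear_combination this
    have heq : j = ((2 ^ n : ℕ) : ZMod (2 ^ (i + 1))) * l :=
      ((zmod_two_pow_two_mul j hj).resolve_left hj0).trans
        ((zmod_two_pow_two_mul _ hn2).resolve_left hn1).symm
    rw [heq]
    exact hmem _

/-- The converse, in `PSL(2, q)`. -/
theorem sc_psl (h4 : 4 ≤ Fintype.card F)
    (hF : Fintype.card F = 4 ∨ Fintype.card F = 9 ∨ ((Fintype.card F).Prime ∧
      ∃ k : ℕ, Fintype.card F = 2 ^ k + 1 ∨ Fintype.card F = 2 ^ k - 1)) : SC PSL2 := by
  classical
  obtain ⟨p, hpp, hp, n, hn0, hn⟩ := Dickson.exists_char (F := F)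
  haveI := Fact.mk hpp
  intro H hH c hc
  by_cases hc1 : c = 1
  · rw [hc1]; exact one_mem H
  set C := centralizer ({c} : Set PSL2) with hC
  have hHC : H ≤ C := fun y hy => mem_centralizer_singleton_iff.mpr (mem_centralizer_iff.mp hc y hy)
  have hcC : c ∈ C := mem_centralizer_singleton_iff.mpr rfl
  have hHnc : ¬ IsCyclic C := fun hcy => hH
    (isCyclic_of_injective (inclusion hHC) (inclusion_injective hHC))
  by_cases hpd : p ∣ Nat.card C
  · -- unipotent elements
    have hpo : p ∣ orderOf c := by
      by_contra hpo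
      exact Dickson.not_dvd_card_centralizer p hc1 hpo hpd
    set c' := c ^ (orderOf c / p) with hc'
    have ho : orderOf c' = p := by
      rw [hc', orderOf_pow, Nat.gcd_eq_right (Nat.div_dvd_of_dvd hpo),
        Nat.div_div_self hpo (orderOf_pos c).ne']
    obtain ⟨P, hP⟩ := (IsPGroup.of_card (p := p) (n := 1) (by rw [Nat.card_zpowers, ho, pow_one]) :
      IsPGroup p (zpowers c')).exists_le_sylow
    have hc'1 : c' ≠ 1 := fun e => by rw [e, orderOf_one] at ho; exact hpp.one_lt.ne ho
    have hCP : C ≤ (P : Subgroup PSL2) := by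
      rw [← Dickson.centralizer_eq_sylow p P (hP (mem_zpowers c')) hc'1]
      intro y hy
      exact mem_centralizer_singleton_iff.mpr
        ((show Commute y c from mem_centralizer_singleton_iff.mp hy).pow_right _).eq
    have hPq := Dickson.card_sylow_psl p P
    have hHP := hHC.trans hCP
    have hHeq : H = (P : Subgroup PSL2) := by
      refine Subgroup.eq_of_le_of_card_ge hHP ?_
      obtain ⟨m, hm⟩ := IsPGroup.iff_card.mp (P.2.to_le hHP)
      have hm2 : 2 ≤ m := by
        by_contra hm2
        refine hH ?_
        rcases (show m = 0 ∨ m = 1 by omega) with rfl | rfl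
        · haveI : Subsingleton H := (Nat.card_eq_one_iff_unique.mp (by rw [hm, pow_zero])).1
          infer_instance
        · exact isCyclic_of_prime_card (by rw [hm, pow_one])
      rw [hm, hPq, hn]
      refine Nat.pow_le_pow_right hpp.pos ?_
      rcases hF with e | e | ⟨e, -⟩
      · rw [hn] at e
        have h2 : p ^ n ≤ p ^ 2 := by
          rw [e]
          calc (4 : ℕ) = 2 ^ 2 := rfl
            _ ≤ p ^ 2 := Nat.pow_le_pow_left hpp.two_le 2
        exact le_trans ((Nat.pow_le_pow_iff_right hpp.one_lt).mp h2) hm2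
      · rw [hn] at e
        have h3 : 3 ≤ p := by
          rcases hpp.eq_two_or_odd with rfl | h
          · have : Even (2 ^ n) := (Nat.even_pow).mpr ⟨even_two, hn0.ne'⟩
            rw [e] at this
            exact absurd this (by decide)
          · have := hpp.two_le; omega
        have h2 : p ^ n ≤ p ^ 2 := by
          rw [e]
          calc (9 : ℕ) = 3 ^ 2 := rfl
            _ ≤ p ^ 2 := Nat.pow_le_pow_left h3 2
        exact le_trans ((Nat.pow_le_pow_iff_right hpp.one_lt).mp h2) hm2
      · rw [hn] at e
        have := Nat.Prime.eq_one_of_pow e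
        omega
    rw [hHeq]
    exact hCP hcC
  · rcases Dickson.psl_subgroup_cases p C with ⟨k, hk, ⟨hcy, -⟩ | ⟨⟨e⟩⟩⟩ | ⟨hpC, -⟩ | ⟨hnn, -⟩
    · exact absurd hcy hHnc
    · have hzc : ∀ y, e ⟨c, hcC⟩ * y = y * e ⟨c, hcC⟩ := by
        intro y
        obtain ⟨y, rfl⟩ := e.surjective y
        rw [← map_mul, ← map_mul]
        exact congrArg e (Subtype.ext (mem_centralizer_singleton_iff.mp y.2).symm)
      have hz1 : e ⟨c, hcC⟩ ≠ 1 := fun h => hc1
        (congrArg Subtype.val (e.injective (h.trans (map_one e).symm)))
      -- `k` is a power of two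
      have hk2 : ∃ i, k = 2 ^ (i + 1) := by
        have hkne : k ≠ 1 := fun hk1 => by
          subst hk1
          haveI : Fact (Nat.Prime 2) := ⟨Nat.prime_two⟩
          exact hHnc ((MulEquiv.isCyclic e).mpr (isCyclic_of_prime_card
            (show Nat.card (DihedralGroup 1) = 2 by rw [DihedralGroup.nat_card])))
        have hodd : ¬ Odd k := fun ho => by
          -- a dihedral group of twice odd order has trivial centre
          obtain ⟨r, hr⟩ : ∃ r, e ⟨c, hcC⟩ = r := ⟨_, rfl⟩
          rw [hr] at hzc hz1
          have hk0 : NeZero k := ⟨by rintro rfl; exact absurd ho (by decide)⟩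
          have hk3 : 3 ≤ k := by obtain ⟨m, hm⟩ := ho; omega
          cases r with
          | r j =>
            have h := hzc (DihedralGroup.sr 0)
            simp only [DihedralGroup.r_mul_sr, DihedralGroup.sr_mul_r, DihedralGroup.sr.injEq] at h
            have hj : (2 : ZMod k) * j = 0 := by linear_combination -h
            have hu : IsUnit (2 : ZMod k) := by
              rw [show (2 : ZMod k) = ((2 : ℕ) : ZMod k) by norm_num, ZMod.isUnit_iff_coprime]
              exact Nat.coprime_two_left.mpr ho
            exact hz1 (by rw [(hu.mul_right_eq_zero).mp hj, DihedralGroup.one_def])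
          | sr j =>
            have h := hzc (DihedralGroup.r 1)
            simp only [DihedralGroup.sr_mul_r, DihedralGroup.r_mul_sr, DihedralGroup.sr.injEq] at h
            have h2 : ((2 : ℕ) : ZMod k) = 0 := by push_cast; linear_combination h
            have := Nat.le_of_dvd two_pos ((ZMod.natCast_eq_zero_iff _ _).mp h2)
            omega
        have hev : 2 ∣ k := even_iff_two_dvd.mp (Nat.not_odd_iff_even.mp hodd)
        have main : ∀ N : ℕ, k ∣ N → (Odd N ∨ ∃ j, N = 2 ^ j) → ∃ i, k = 2 ^ (i + 1) := by
          rintro N hN (hN' | ⟨j, rfl⟩)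
          · exact absurd (hN'.of_dvd_nat hN) hodd
          · obtain ⟨m, -, rfl⟩ := (Nat.dvd_prime_pow Nat.prime_two).mp hN
            rcases m with _ | m
            · exact absurd hev (by decide)
            · exact ⟨m, rfl⟩
        rcases hF with h | h | ⟨hpr, m, h⟩
        · rw [h] at hk
          norm_num at hk
          rcases hk with hk | hk
          · exact main _ hk (Or.inl (by decide))
          · exact main _ hk (Or.inl (by decide))
        · rw [h] at hk
          norm_num at hk
          rcases hk with hk | hk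
          · exact main _ hk (Or.inl (by decide))
          · exact main _ hk (Or.inr ⟨2, rfl⟩)
        · have hm : 2 ≤ m := by
            by_contra hm
            interval_cases m <;> omega
          obtain ⟨d, hd⟩ : ∃ d, 2 ^ m = 4 * d := ⟨2 ^ (m - 2), by
            rw [show (4 : ℕ) = 2 ^ 2 from rfl, ← pow_add]; congr 1; omega⟩
          have hd' : 2 * d = 2 ^ (m - 1) := by
            have : 2 ^ m = 2 * 2 ^ (m - 1) := by rw [← pow_succ']; congr 1; omega
            omega
          rcases h with h | h
          · have hg : Nat.gcd 2 (Fintype.card F - 1) = 2 := Nat.gcd_eq_left ⟨2 * d, by omega⟩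
            rw [hg] at hk
            rcases hk with hk | hk
            · exact main _ hk (Or.inl ⟨d, by omega⟩)
            · exact main _ hk (Or.inr ⟨m - 1, by omega⟩)
          · have hg : Nat.gcd 2 (Fintype.card F - 1) = 2 := Nat.gcd_eq_left ⟨2 * d - 1, by omega⟩
            rw [hg] at hk
            rcases hk with hk | hk
            · exact main _ hk (Or.inr ⟨m - 1, by omega⟩)
            · exact main _ hk (Or.inl ⟨d - 1, by omega⟩)
      have hH' : ¬ IsCyclic ↥((H.subgroupOf C).map e.toMonoidHom) := fun h => hH
        (((subgroupOfEquivOfLe hHC).symm.trans ((H.subgroupOf C).equivMapOfInjective e.toMonoidHom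
          e.injective)).isCyclic.mpr h)
      obtain ⟨y, hy, hye⟩ := mem_of_dihedral hk2 hz1 hzc hH'
      have : y = ⟨c, hcC⟩ := e.injective hye
      rw [this] at hy
      exact hy
    · exact absurd hpC hpd
    · exfalso
      have hn' : ((zpowers c).subgroupOf C).Normal := ⟨fun a ha b => by
        have hba : (b : PSL2) * a = a * b := by
          obtain ⟨k, hk⟩ := mem_zpowers_iff.mp (mem_subgroupOf.mp ha)
          rw [← hk]
          exact (Commute.zpow_right (mem_centralizer_singleton_iff.mp b.2) k).eq
        rw [show b * a * b⁻¹ = a from Subtype.ext (by simp [hba])]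
        exact ha⟩
      haveI : IsCyclic ((zpowers c).subgroupOf C) :=
        isCyclic_of_injective (subgroupOfEquivOfLe (zpowers_le.mpr hcC)).toMonoidHom
          (subgroupOfEquivOfLe (zpowers_le.mpr hcC)).injective
      refine hc1 ?_
      have h := hnn _ hn' inferInstance
      have : (⟨c, hcC⟩ : C) ∈ (zpowers c).subgroupOf C := mem_zpowers c
      rw [h, mem_bot] at this
      exact congrArg Subtype.val this

/-- The property passes along an isomorphism. -/
theorem SC.of_equiv {G : Type u} [Group G] {K : Type} [Group K] (e : G ≃* K) (h : SC K) : SC G := by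
  intro H hH c hc
  have h1 := h (H.map e.toMonoidHom)
    (fun hcy => hH ((H.equivMapOfInjective e.toMonoidHom e.injective).isCyclic.mpr hcy))
    (show e c ∈ centralizer ((H.map e.toMonoidHom : Subgroup K) : Set K) from
      mem_centralizer_iff.mpr fun y hy => by
        obtain ⟨y, hy', rfl⟩ := hy
        show e y * e c = e c * e y
        rw [← map_mul, ← map_mul, mem_centralizer_iff.mp hc y hy'])
  obtain ⟨y, hy, hye⟩ := h1
  exact e.injective hye ▸ hy

end Cfsg.Lib.CIT.SelfCentral
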